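import Cfsg.Agent.H58.SLFiveForms.Quad
import Cfsg.Agent.H69.SLFour.Unitary

/-!
The two form clauses for dimension five.
-/

set_option autoImplicit false

open Cfsg

namespace Cfsg.Agent.H58.SLFiveForms

/-- The quadratic clause. -/
theorem quadratic_maximal_five {F : Type*} [Field F] [Fintype F] (hodd : Odd (Fintype.card F))
    (Q : (Fin 5 → F) → F) (hQ : Geo.IsNondegenerateQuadraticForm Q) :
    Geo.IsMaximalIn (Geo.specialLinear (Fin 5) F)
      (Geo.quadSimilarityGroup Q ⊓ Geo.specialLinear (Fin 5) F) :=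
  quadratic_maximal_of_five_le le_rfl hodd Q hQ

/-- The unitary clause. -/
theorem unitary_maximal_five {F : Type*} [Field F] [Fintype F] (σ : F ≃+* F)
    (f : (Fin 5 → F) → (Fin 5 → F) → F) (hf : Geo.IsUnitaryForm σ f) :
    Geo.IsMaximalIn (Geo.specialLinear (Fin 5) F)
      (Geo.similarityGroup f ⊓ Geo.specialLinear (Fin 5) F) :=
  H69.SLFour.unitary_similarity_maximal (by norm_num) σ f hf

end Cfsg.Agent.H58.SLFiveForms
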