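import Cfsg.Agent.H69.SLFour.Quad

/-!
The similarity group of a quadratic form is maximal in the special linear group from dimension
five on, odd characteristic.
-/

set_option autoImplicit false

open Cfsg

namespace Cfsg.Agent.H58.SLFiveForms

open scoped MatrixGroups Matrix
open Matrix QuadraticMap
open Cfsg.Agent.H95 hiding exists_iso_perp exists_iso_nonorth
open Cfsg.Agent.H69.SLFour (tv_of_good specialLinear_le_of_tv eq_smul_of_zeros)

variable {ι : Type} [Fintype ι] [DecidableEq ι] {F : Type*} [Field F] {Q : (ι → F) → F}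
  (hQ : Geo.IsNondegenerateQuadraticForm Q)
include hQ

set_option linter.unusedSectionVars false

attribute [-simp] Matrix.coe_units_inv

variable (h2 : (2 : F) ≠ 0) {M : Subgroup (GL ι F)}
  (hM : ∀ a b (ha : Q a ≠ 0) (hb : Q b ≠ 0), rfl' hQ h2 a ha * rfl' hQ h2 b hb ∈ M)
  (hsg : ∀ e c (he : Q e = 0) (hec : polar Q e c = 0), sg hQ e c he hec ∈ M)
include h2 hM hsg

/-- From dimension five on the favourable case always occurs. -/
theorem exists_tv (hn : 5 ≤ Fintype.card ι) {g : GL ι F} (hg : g ∈ M)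
    {e : ι → F} (he : Q e = 0) (hge : Q ((g : Matrix ι ι F) *ᵥ e) ≠ 0) :
    ∃ v ψ, Q v ≠ 0 ∧ ψ ≠ 0 ∧ InTv M v ψ := by
  set G := (g : Matrix ι ι F) with hG
  set u := G *ᵥ e with hu
  have huu : polar Q u u ≠ 0 := by rw [p_self hQ]; exact mul_ne_zero h2 hge
  have hQg : Geo.IsNondegenerateQuadraticForm fun x => Q (G *ᵥ x) := by
    have := S5644.twist hQ g⁻¹
    rwa [inv_inv] at this
  have hpg : ∀ x y, polar (fun x => Q (G *ᵥ x)) x y = polar Q (G *ᵥ x) (G *ᵥ y) := fun x y => by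
    simp only [polar, mulVec_add]
  obtain ⟨a, hca, hga⟩ := exists_aniso_ker hQg h2
    ![dv (polar fun x => Q (G *ᵥ x)) e, dv (polar Q) e] (by omega)
  have hae : polar Q a e = 0 := by rw [← qv_dot hQ]; exact hca 1
  have hau : polar Q (G *ᵥ a) u = 0 := by rw [hu, ← hpg, ← qv_dot hQg]; exact hca 0
  by_cases hQa : Q a = 0
  swap
  · exact tv_of_good hQ h2 hM hsg hg he hge hae hau hQa hga
  obtain ⟨l, hl, hQl⟩ := exists_aniso_ker hQ h2 ![dv (polar Q) e, dv (polar Q) a] (by omega)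
  have hle : polar Q l e = 0 := by rw [← qv_dot hQ]; exact hl 0
  have hla : polar Q l a = 0 := by rw [← qv_dot hQ]; exact hl 1
  set z := l - (polar Q (G *ᵥ l) u / polar Q u u) • e with hz
  have hea : polar Q e a = 0 := by rw [p_comm hQ]; exact hae
  have hee : polar Q e e = 0 := by rw [p_self hQ, he, mul_zero]
  have hze : polar Q z e = 0 := by
    rw [hz, p_sub_left hQ, p_smul_left hQ, hle, hee]; ring
  have hza : polar Q z a = 0 := by
    rw [hz, p_sub_left hQ, p_smul_left hQ, hla, hea]; ring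
  have hzu : polar Q (G *ᵥ z) u = 0 := by
    rw [hz, mulVec_sub, mulVec_smul, ← hu, p_sub_left hQ, p_smul_left hQ,
      div_mul_cancel₀ _ huu, sub_self]
  have hQz : Q z ≠ 0 := by
    rw [hz, q_sub hQ, q_smul hQ, he, p_smul_right hQ, hle]
    simpa using hQl
  by_cases hgz : Q (G *ᵥ z) = 0
  swap
  · exact tv_of_good hQ h2 hM hsg hg he hge hze hzu hQz hgz
  have haz : polar Q a z = 0 := by rw [p_comm hQ]; exact hza
  by_cases hs : Q (G *ᵥ (a + z)) = 0
  swap
  · exact tv_of_good hQ h2 hM hsg hg he hge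
      (by rw [p_add_left hQ, hae, hze, add_zero])
      (by rw [mulVec_add, p_add_left hQ, hau, hzu, add_zero])
      (by rw [q_add hQ, hQa, haz, add_zero, zero_add]; exact hQz) hs
  refine tv_of_good hQ h2 hM hsg hg he hge (c := a - z)
    (by rw [p_sub_left hQ, hae, hze, sub_zero])
    (by rw [mulVec_sub, p_sub_left hQ, hau, hzu, sub_zero])
    (by rw [q_sub hQ, hQa, haz, sub_zero, zero_add]; exact hQz) fun hd => ?_
  rw [mulVec_sub, q_sub hQ, hgz, add_zero] at hd
  rw [mulVec_add, q_add hQ, hgz, add_zero] at hs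
  have : (2 : F) * Q (G *ᵥ a) = 0 := by linear_combination hs + hd
  exact hga ((mul_eq_zero.1 this).resolve_left h2)

omit hQ h2 hM hsg in
/-- The maximality statement. -/
theorem quadratic_maximal_of_five_le {n : ℕ} (hn5 : 5 ≤ n) {F : Type*} [Field F] [Fintype F] (hodd : Odd (Fintype.card F))
    (Q : (Fin n → F) → F) (hQ : Geo.IsNondegenerateQuadraticForm Q) :
    Geo.IsMaximalIn (Geo.specialLinear (Fin n) F)
      (Geo.quadSimilarityGroup Q ⊓ Geo.specialLinear (Fin n) F) := by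
  have hn : 4 ≤ Fintype.card (Fin n) := by rw [Fintype.card_fin]; omega
  have h2 : (2 : F) ≠ 0 := by
    refine Ring.two_ne_zero fun h => ?_
    have := FiniteField.even_card_of_char_two (F := F) h
    rw [Nat.odd_iff] at hodd
    omega
  set SL := Geo.specialLinear (Fin n) F with hSL
  refine ⟨lt_of_le_of_ne inf_le_right ?_, fun M hSM hMSL => ?_⟩
  · intro hEq
    obtain ⟨a, -, ha⟩ := exists_aniso_ker hQ h2 (![] : Fin 0 → Fin n → F) (by omega)
    obtain ⟨b, hb', hb⟩ := exists_aniso_ker hQ h2 ![dv (polar Q) a] (by omega)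
    have hab : polar Q b a = 0 := by rw [← qv_dot hQ]; exact hb' 0
    have h0 : dv (polar Q) b ⬝ᵥ a = 0 := by rw [qv_dot hQ, p_comm hQ, hab]
    obtain ⟨⟨μ, hμ⟩, -⟩ : tv a (dv (polar Q) b) h0 ∈ Geo.quadSimilarityGroup Q ⊓ SL :=
      hEq.symm ▸ tv_mem_specialLinear _ _ h0
    have e1 := hμ a
    rw [tv_mulVec, h0, zero_smul, add_zero] at e1
    have hμ1 : (μ : F) = 1 := (mul_eq_right₀ ha).1 e1.symm
    have e2 := hμ b
    rw [tv_mulVec, qv_dot hQ, q_add hQ, q_smul hQ, p_smul_right hQ, hab, p_self hQ, hμ1, one_mul,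
      mul_zero, add_zero, add_eq_left, mul_eq_zero, sq_eq_zero_iff, mul_eq_zero] at e2
    rcases e2 with (h | h) | h
    · exact h2 h
    · exact hb h
    · exact ha h
  by_cases hMS : M ≤ Geo.quadSimilarityGroup Q ⊓ SL
  · exact Or.inl (le_antisymm hMS hSM)
  right
  refine le_antisymm hMSL ?_
  obtain ⟨g, hgM, hgS⟩ := SetLike.not_le_iff_exists.1 hMS
  have hM : ∀ a b (ha : Q a ≠ 0) (hb : Q b ≠ 0), rfl' hQ h2 a ha * rfl' hQ h2 b hb ∈ M :=
    fun a b ha hb => hSM (S5644.refl_pair_mem hQ h2 a b ha hb)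
  have hsg : ∀ e c (he : Q e = 0) (hec : polar Q e c = 0), sg hQ e c he hec ∈ M :=
    fun e c he hec => hSM ⟨⟨1, fun v => by rw [Units.val_one, one_mul, sg_iso hQ]⟩,
      sg_mem_specialLinear hQ e c he hec⟩
  by_cases hmove : ∃ e, Q e = 0 ∧ Q ((g : Matrix (Fin n) (Fin n) F) *ᵥ e) ≠ 0
  · obtain ⟨e, he, hge⟩ := hmove
    obtain ⟨v, ψ, hv, hψ, hT⟩ := exists_tv hQ h2 hM hsg (by rw [Fintype.card_fin]; exact hn5) hgM he hge
    exact specialLinear_le_of_tv hQ h2 hsg hn hv hψ hT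
  exfalso
  push Not at hmove
  apply hgS
  refine ⟨?_, hMSL hgM⟩
  have hQg : Geo.IsNondegenerateQuadraticForm
      fun x => Q ((g : Matrix (Fin n) (Fin n) F) *ᵥ x) := by
    have := S5644.twist hQ g⁻¹
    rwa [inv_inv] at this
  obtain ⟨l, hl⟩ := eq_smul_of_zeros hQ h2 hn hQg hmove
  have hl0 : l ≠ 0 := by
    rintro rfl
    obtain ⟨a, -, ha⟩ := exists_aniso_ker hQg h2 (![] : Fin 0 → Fin n → F) (by omega)
    exact ha (by rw [hl a, zero_mul])
  exact ⟨Units.mk0 l hl0, hl⟩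

end Cfsg.Agent.H58.SLFiveForms
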